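/- A cohomologically zero endomorphism of an object of amplitude n in D(A) is nilpotent. -/
import Mathlib.Algebra.Homology.DerivedCategory.TStructure
import Mathlib.Algebra.Homology.DerivedCategory.HomologySequence
import Mathlib.Algebra.Homology.DerivedCategory.SingleTriangle
import Mathlib.Algebra.Homology.DerivedCategory.FullyFaithful
import Mathlib.CategoryTheory.Triangulated.TStructure.TruncLTGE

set_option autoImplicit false

open CategoryTheory CategoryTheory.Limits CategoryTheory.Pretriangulated

universe w v u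

namespace Groth.Agent.DerAb.Nilpotent

open DerivedCategory

variable {A : Type u} [Category.{v} A] [Abelian A] [HasDerivedCategory.{w} A]

/-- A map between objects concentrated in degree `b` that vanishes on `H^b` is zero. -/
lemma eq_zero_of_concentrated {X Y : DerivedCategory A} (b : ℤ) [X.IsGE b] [X.IsLE b]
    [Y.IsGE b] [Y.IsLE b] (g : X ⟶ Y) (hg : (homologyFunctor A b).map g = 0) : g = 0 := by
  obtain ⟨M, ⟨e⟩⟩ := exists_iso_singleFunctor_obj_of_isGE_of_isLE X b
  obtain ⟨N, ⟨e'⟩⟩ := exists_iso_singleFunctor_obj_of_isGE_of_isLE Y b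
  obtain ⟨φ, hφ⟩ := (singleFunctor A b).map_surjective (e.inv ≫ g ≫ e'.hom)
  have h1 : (homologyFunctor A b).map ((singleFunctor A b).map φ) = 0 := by
    rw [hφ]; simp [hg]
  have h2 : φ = 0 := by
    have := (singleFunctorCompHomologyFunctorIso A b).hom.naturality φ
    dsimp at this
    rw [h1, zero_comp] at this
    rw [← cancel_epi ((singleFunctorCompHomologyFunctorIso A b).hom.app M), comp_zero]
    exact this.symm
  rw [h2, Functor.map_zero] at hφ
  calc g = e.hom ≫ (e.inv ≫ g ≫ e'.hom) ≫ e'.inv := by simp
    _ = 0 := by rw [← hφ]; simp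

theorem main (a : ℤ) (n : ℕ) : ∀ (X : DerivedCategory A)
    (_ : ∀ i : ℤ, i < a ∨ a + n ≤ i → IsZero ((homologyFunctor A i).obj X))
    (f : CategoryTheory.End X) (_ : ∀ i : ℤ, (homologyFunctor A i).map f = 0),
    f ^ n = 0 := by
  induction n with
  | zero =>
    intro X hX f _
    have hz : IsZero X := by
      rw [IsZero.iff_id_eq_zero]
      haveI : IsIso (0 : X ⟶ X) := by
        rw [DerivedCategory.isIso_iff]
        intro i
        have hi := hX i (by omega)
        exact ⟨0, hi.eq_of_src _ _, hi.eq_of_src _ _⟩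
      rw [← IsIso.hom_inv_id (0 : X ⟶ X), zero_comp]
    exact hz.eq_of_src _ _
  | succ n ih =>
    intro X hX f hf
    let b : ℤ := a + n
    let t := TStructure.t (C := A)
    let T : Triangle (DerivedCategory A) := (t.triangleLTGE b).obj X
    have hT : T ∈ distTriang _ := t.triangleLTGE_distinguished b X
    haveI hL : t.IsLE T.obj₁ (b - 1) := t.isLE_truncLT_obj X b (b - 1)
    haveI hG : t.IsGE T.obj₃ b := t.isGE_truncGE_obj X b b
    have hG' : T.obj₃.IsLE b := by
      rw [DerivedCategory.isLE_iff]
      intro i hi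
      exact (HomologySequence.exact₃ T hT i (i + 1)).isZero_of_both_zeros
        ((hX i (by omega)).eq_of_src _ _)
        ((DerivedCategory.isZero_of_isLE T.obj₁ (b - 1) (i + 1) (by omega)).eq_of_tgt _ _)
    haveI := hG'
    have hmono : ∀ k : ℤ, Mono ((homologyFunctor A k).map T.mor₁) := by
      intro k
      rw [HomologySequence.mono_homologyMap_mor₁_iff T hT (k - 1) k]
      by_cases hk : k - 1 = b
      · exact (DerivedCategory.isZero_of_isLE T.obj₁ (b - 1) k (by omega)).eq_of_tgt _ _
      · rcases lt_or_gt_of_ne hk with hk | hk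
        · exact (DerivedCategory.isZero_of_isGE T.obj₃ b (k - 1) hk).eq_of_src _ _
        · exact (DerivedCategory.isZero_of_isLE T.obj₃ b (k - 1) hk).eq_of_src _ _
    let i₀ : T.obj₁ ⟶ X := T.mor₁
    let p₀ : X ⟶ T.obj₃ := T.mor₂
    let f' : X ⟶ X := f
    have hepi : Epi ((homologyFunctor A b).map p₀) := by
      change Epi ((homologyFunctor A b).map T.mor₂)
      rw [HomologySequence.epi_homologyMap_mor₂_iff T hT b (b + 1)]
      exact (DerivedCategory.isZero_of_isLE T.obj₁ (b - 1) (b + 1) (by omega)).eq_of_tgt _ _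
    have hf' : ∀ i, (homologyFunctor A i).map f' = 0 := hf
    have hfp : f' ≫ p₀ = 0 := by
      obtain ⟨g, hg⟩ := Triangle.yoneda_exact₂ T hT (f' ≫ p₀) (by
        exact t.zero _ (b - 1) b (by omega))
      change f' ≫ p₀ = p₀ ≫ g at hg
      have : g = 0 := by
        apply eq_zero_of_concentrated b g
        rw [← cancel_epi ((homologyFunctor A b).map p₀), ← Functor.map_comp, ← hg,
          Functor.map_comp, hf' b, zero_comp, comp_zero]
      rw [hg, this, comp_zero]
    obtain ⟨f₁, hf₁'⟩ := Triangle.coyoneda_exact₂ T hT f' hfp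
    change X ⟶ T.obj₁ at f₁
    have hf₁ : f' = f₁ ≫ i₀ := hf₁'
    let g : End T.obj₁ := i₀ ≫ f₁
    have hg : g ^ n = 0 := by
      refine ih T.obj₁ (fun i hi => ?_) g (fun i => ?_)
      · rcases hi with hi | hi
        · haveI := hmono i
          exact IsZero.of_mono ((homologyFunctor A i).map T.mor₁) (hX i (Or.inl hi))
        · exact DerivedCategory.isZero_of_isLE T.obj₁ (b - 1) i (by omega)
      · haveI : Mono ((homologyFunctor A i).map i₀) := hmono i
        rw [← cancel_mono ((homologyFunctor A i).map i₀), zero_comp, ← Functor.map_comp]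
        show (homologyFunctor A i).map ((i₀ ≫ f₁) ≫ i₀) = 0
        rw [Category.assoc, ← hf₁, Functor.map_comp, hf' i, comp_zero]
    have key : ∀ k : ℕ, f ^ (k + 1) = f₁ ≫ (g ^ k : End T.obj₁) ≫ i₀ := by
      intro k
      induction k with
      | zero =>
        rw [zero_add, pow_one, pow_zero, End.one_def, Category.id_comp]
        exact hf₁
      | succ k hk =>
        rw [pow_succ f (k + 1), End.mul_def, hk, pow_succ g k, End.mul_def]
        show f' ≫ _ = _
        simp only [hf₁, g, Category.assoc]
    rw [key n, hg]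
    exact (congrArg _ zero_comp).trans comp_zero

end Groth.Agent.DerAb.Nilpotent
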