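/- Derived category objects with cohomology in a weak Serre class. -/
import Mathlib.Algebra.Homology.DerivedCategory.HomologySequence
import Mathlib.CategoryTheory.Triangulated.Subcategory
import Mathlib.CategoryTheory.ObjectProperty.Retract

set_option autoImplicit false

open CategoryTheory CategoryTheory.Limits CategoryTheory.Pretriangulated ZeroObject

universe w v u

namespace Groth.Agent.DerAb.WeakSerre

variable {A : Type u} [Category.{v} A] [Abelian A]

/-- Five-term criterion in unbundled form. -/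
lemma five (P : ObjectProperty A)
    (hP : ∀ S : ComposableArrows A 4, S.Exact →
      P (S.obj 0) → P (S.obj 1) → P (S.obj 3) → P (S.obj 4) → P (S.obj 2))
    {X₀ X₁ X₂ X₃ X₄ : A} (f : X₀ ⟶ X₁) (g : X₁ ⟶ X₂) (h : X₂ ⟶ X₃) (k : X₃ ⟶ X₄)
    (w₁ : f ≫ g = 0) (w₂ : g ≫ h = 0) (w₃ : h ≫ k = 0)
    (e₁ : (ShortComplex.mk f g w₁).Exact) (e₂ : (ShortComplex.mk g h w₂).Exact)
    (e₃ : (ShortComplex.mk h k w₃).Exact)
    (h₀ : P X₀) (h₁ : P X₁) (h₃ : P X₃) (h₄ : P X₄) : P X₂ :=
  hP (ComposableArrows.mk₄ f g h k)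
    (ComposableArrows.exact_of_δ₀ e₁.exact_toComposableArrows
      (ComposableArrows.exact_of_δ₀ e₂.exact_toComposableArrows e₃.exact_toComposableArrows))
    h₀ h₁ h₃ h₄

variable [HasDerivedCategory.{w} A] (P : ObjectProperty A) [P.IsClosedUnderIsomorphisms]

theorem main (h0 : ∃ Z : A, IsZero Z ∧ P Z)
    (hP : ∀ S : ComposableArrows A 4, S.Exact →
      P (S.obj 0) → P (S.obj 1) → P (S.obj 3) → P (S.obj 4) → P (S.obj 2)) :
    ObjectProperty.IsTriangulated
      (fun X : DerivedCategory A => ∀ n : ℤ, P ((DerivedCategory.homologyFunctor A n).obj X)) ∧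
    ObjectProperty.IsStableUnderRetracts
      (fun X : DerivedCategory A => ∀ n : ℤ, P ((DerivedCategory.homologyFunctor A n).obj X)) := by
  obtain ⟨Z, hZ, hPZ⟩ := h0
  let Q : ObjectProperty (DerivedCategory A) :=
    fun X => ∀ n : ℤ, P ((DerivedCategory.homologyFunctor A n).obj X)
  have hzero : ∀ {X : A}, IsZero X → P X := fun hX => P.prop_of_iso (hZ.iso hX) hPZ
  haveI : Q.IsClosedUnderIsomorphisms := ⟨fun e hX n =>
    P.prop_of_iso ((DerivedCategory.homologyFunctor A n).mapIso e) (hX n)⟩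
  haveI : Q.ContainsZero := ⟨0, isZero_zero _, fun n =>
    hzero ((DerivedCategory.homologyFunctor A n).map_isZero (isZero_zero _))⟩
  haveI : Q.IsStableUnderShift ℤ := ⟨fun a => ⟨fun X hX n =>
    P.prop_of_iso (((DerivedCategory.homologyFunctor A 0).shiftIso a n (a + n) rfl).app X).symm
      (hX (a + n))⟩⟩
  haveI : Q.IsTriangulatedClosed₂ := .mk' fun T hT h₁ h₃ n =>
    five P hP _ _ _ _ (DerivedCategory.HomologySequence.δ_comp T hT (n - 1) n)
      (by rw [← Functor.map_comp, comp_distTriang_mor_zero₁₂ _ hT, Functor.map_zero])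
      (DerivedCategory.HomologySequence.comp_δ T hT n (n + 1))
      (DerivedCategory.HomologySequence.exact₁ T hT (n - 1) n)
      (DerivedCategory.HomologySequence.exact₂ T hT n)
      (DerivedCategory.HomologySequence.exact₃ T hT n (n + 1))
      (h₃ (n - 1)) (h₁ n) (h₃ n) (h₁ (n + 1))
  refine ⟨show Q.IsTriangulated from { }, ⟨fun {X Y} r hY n => ?_⟩⟩
  let F := DerivedCategory.homologyFunctor A n
  let r' := r.map F
  refine five P hP (X₀ := F.obj Y) (X₁ := F.obj Y) (X₂ := F.obj X) (X₃ := Z) (X₄ := Z)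
    (𝟙 _ - r'.r ≫ r'.i) r'.r 0 0 ?_ comp_zero comp_zero ?_ ?_ ?_ (hY n) (hY n) hPZ hPZ
  · simp [Preadditive.sub_comp]
  · rw [ShortComplex.exact_iff_exact_up_to_refinements]
    intro T x hx
    dsimp at x hx ⊢
    exact ⟨T, 𝟙 _, inferInstance, x, by simp [Preadditive.comp_sub, reassoc_of% hx]⟩
  · exact (ShortComplex.exact_iff_epi _ rfl).2 (SplitEpi.epi ⟨r'.i, r'.retract⟩)
  · exact ShortComplex.exact_of_isZero_X₂ _ hZ

end Groth.Agent.DerAb.WeakSerre
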